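import Groth.Prelude.Def_W4stkschemesremainderFib
import Groth.Agent.Et18.Descent
import Mathlib.AlgebraicGeometry.Morphisms.FlatRank
import Mathlib.AlgebraicGeometry.Morphisms.Immersion
import Mathlib.RingTheory.Spectrum.Prime.FreeLocus

/-! # Degrees of fibres -/

set_option autoImplicit false

universe u

open CategoryTheory Limits AlgebraicGeometry

namespace Groth.Agent.BddFibLib29

/-- finite of degree at most `n` over a field, in terms of the rank function -/
def Deg (L : Type u) [Field L] {T : Scheme.{u}} (q : T ⟶ Spec (CommRingCat.of L)) (n : ℕ) : Prop :=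
  IsFinite q ∧ q.finrank (IsLocalRing.closedPoint L) ≤ n

variable (L : Type u) [Field L]

theorem flat_toSpecField {T : Scheme.{u}} (q : T ⟶ Spec (CommRingCat.of L)) : Flat q := by
  refine HasRingHomProperty.of_source_openCover (P := @Flat) T.affineCover fun i => ?_
  rw [← RingHom.Flat.respectsIso.cancel_left_isIso (Scheme.ΓSpecIso (CommRingCat.of L)).inv, ← CommRingCat.hom_comp]
  let ψ : L →+* Γ(T.affineCover.X i, ⊤) := ((Scheme.ΓSpecIso (CommRingCat.of L)).inv ≫ (T.affineCover.f i ≫ q).appTop).hom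
  algebraize [ψ]
  show Module.Flat L _
  infer_instance

theorem finrank_eq_of_affine {T : Scheme.{u}} [IsAffine T] (q : T ⟶ Spec (CommRingCat.of L))
    (hfin : letI := BddFib.secAlgebra (CommRingCat.of L) q; Module.Finite L Γ(T, ⊤)) :
    q.finrank (IsLocalRing.closedPoint L) =
      letI := BddFib.secAlgebra (CommRingCat.of L) q; Module.finrank L Γ(T, ⊤) := by
  letI : Algebra L Γ(T, ⊤) := BddFib.secAlgebra (CommRingCat.of L) q
  haveI : Module.Finite L Γ(T, ⊤) := hfin
  have hq : q = T.isoSpec.hom ≫ Spec.map (CommRingCat.ofHom (algebraMap L Γ(T, ⊤))) := by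
    have : CommRingCat.ofHom (algebraMap L Γ(T, ⊤)) = (Scheme.ΓSpecIso (CommRingCat.of L)).inv ≫ q.appTop := rfl
    rw [this, Spec.map_comp, Scheme.isoSpec_hom, ← Scheme.toSpecΓ_naturality_assoc, toSpecΓ_SpecMap_ΓSpecIso_inv,
      Category.comp_id]
  haveI : IsFinite (Spec.map (CommRingCat.ofHom (algebraMap L Γ(T, ⊤)))) :=
    (IsFinite.SpecMap_iff _).2 (by simpa [RingHom.finite_algebraMap] using hfin)
  haveI : Flat (Spec.map (CommRingCat.ofHom (algebraMap L Γ(T, ⊤)))) := flat_toSpecField L _
  conv_lhs => rw [hq]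
  rw [Scheme.Hom.finrank_comp_left_of_isIso, Scheme.Hom.finrank_SpecMap_algebraMap, Module.rankAtStalk_eq_finrank_of_free]
  rfl

theorem deg_iff {T : Scheme.{u}} (q : T ⟶ Spec (CommRingCat.of L)) (n : ℕ) :
    BddFib.FiniteOfDegLE (CommRingCat.of L) q n ↔ Deg L q n := by
  letI : Algebra L Γ(T, ⊤) := BddFib.secAlgebra (CommRingCat.of L) q
  constructor
  · rintro ⟨haff, hfin, hle⟩
    refine ⟨?_, by rw [finrank_eq_of_affine L q hfin]; exact hle⟩
    rw [HasAffineProperty.iff_of_isAffine (P := @IsFinite), and_iff_right haff]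
    rw [← RingHom.finite_respectsIso.cancel_left_isIso (Scheme.ΓSpecIso (CommRingCat.of L)).inv, ← CommRingCat.hom_comp]
    exact RingHom.finite_algebraMap.2 hfin
  · rintro ⟨hf, hle⟩
    haveI := hf
    haveI : IsAffine T := isAffine_of_isAffineHom q
    have hfin : Module.Finite L Γ(T, ⊤) := by
      have := q.finite_appTop
      rw [← RingHom.finite_respectsIso.cancel_left_isIso (Scheme.ΓSpecIso (CommRingCat.of L)).inv, ← CommRingCat.hom_comp] at this
      exact RingHom.finite_algebraMap.1 this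
    exact ⟨inferInstance, hfin, by rw [← finrank_eq_of_affine L q hfin]; exact hle⟩

variable {L}

theorem fpqc_of_field {L' : Type u} [Field L'] (g : Spec (CommRingCat.of L') ⟶ Spec (CommRingCat.of L)) :
    Et18.FPQC g :=
  ⟨⟨⟨fun x => ⟨IsLocalRing.closedPoint L', Subsingleton.elim (α := PrimeSpectrum L) _ _⟩⟩, flat_toSpecField L g⟩,
    inferInstance⟩

theorem deg_of_isPullback {T T' : Scheme.{u}} {L' : Type u} [Field L'] {p : T' ⟶ T}
    {q' : T' ⟶ Spec (CommRingCat.of L')} {q : T ⟶ Spec (CommRingCat.of L)}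
    {g : Spec (CommRingCat.of L') ⟶ Spec (CommRingCat.of L)} (h : IsPullback p q' q g) (n : ℕ) :
    Deg L' q' n ↔ Deg L q n := by
  have hfin : IsFinite q' ↔ IsFinite q := by
    haveI := Et18.descends_isFinite.{u}
    exact ⟨fun hf => MorphismProperty.of_isPullback_of_descendsAlong (P := @IsFinite) (Q := Et18.FPQC) h.flip (fpqc_of_field g) hf,
      fun hf => MorphismProperty.of_isPullback h hf⟩
  have key : IsFinite q → q'.finrank (IsLocalRing.closedPoint L') = q.finrank (IsLocalRing.closedPoint L) := by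
    intro hf
    haveI := hf
    haveI := flat_toSpecField L q
    rw [Scheme.Hom.finrank_of_isPullback p q' q g h (IsLocalRing.closedPoint L')]
    exact congrArg q.finrank (Subsingleton.elim (α := PrimeSpectrum L) _ _)
  constructor
  · rintro ⟨hf, hle⟩
    exact ⟨hfin.1 hf, by rwa [← key (hfin.1 hf)]⟩
  · rintro ⟨hf, hle⟩
    exact ⟨hfin.2 hf, by rwa [key hf]⟩

variable {X Y : Scheme.{u}} (f : X ⟶ Y)

theorem fibre_iff (y : Y) (n : ℕ) :
    BddFib.FiniteOfDegLE (Y.residueField y) (f.fiberToSpecResidueField y) n ↔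
      Deg (Y.residueField y) (f.fiberToSpecResidueField y) n :=
  deg_iff (Y.residueField y) (f.fiberToSpecResidueField y) n

/-- the degree over any field point only depends on the fibre -/
theorem deg_fibre {L : Type u} [Field L] {T : Scheme.{u}} {p : T ⟶ X} {q : T ⟶ Spec (CommRingCat.of L)}
    {g : Spec (CommRingCat.of L) ⟶ Y} (h : IsPullback p q f g) (n : ℕ) :
    Deg L q n ↔ Deg (Y.residueField (g (IsLocalRing.closedPoint L)))
      (f.fiberToSpecResidueField (g (IsLocalRing.closedPoint L))) n := by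
  set y := g (IsLocalRing.closedPoint L)
  let φ := Y.descResidueField (Scheme.stalkClosedPointTo g)
  have hg : Spec.map φ ≫ Y.fromSpecResidueField y = g := Scheme.descResidueField_stalkClosedPointTo_fromSpecResidueField L Y g
  have hF : IsPullback (f.fiberι y) (f.fiberToSpecResidueField y) f (Y.fromSpecResidueField y) := .of_hasPullback _ _
  let l : T ⟶ f.fiber y := hF.lift p (q ≫ Spec.map φ) (by rw [Category.assoc, hg]; exact h.w)
  have hl : IsPullback l q (f.fiberToSpecResidueField y) (Spec.map φ) := by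
    refine IsPullback.of_right ?_ (hF.lift_snd ..) hF
    rw [show l ≫ f.fiberι y = p from hF.lift_fst .., hg]
    exact h
  exact deg_of_isPullback hl n

theorem deg_of_fibreDegLE {n : ℕ} (hf : BddFib.FibreDegLE f n) {L : Type u} [Field L] {T : Scheme.{u}} {p : T ⟶ X}
    {q : T ⟶ Spec (CommRingCat.of L)} {g : Spec (CommRingCat.of L) ⟶ Y} (h : IsPullback p q f g) : Deg L q n :=
  (deg_fibre f h n).2 ((fibre_iff f _ n).1 (hf _))

theorem fibreDegLE_of_forall {n : ℕ}
    (h : ∀ y : Y, ∃ (L : Type u) (_ : Field L) (T : Scheme.{u}) (p : T ⟶ X) (q : T ⟶ Spec (CommRingCat.of L))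
      (g : Spec (CommRingCat.of L) ⟶ Y), IsPullback p q f g ∧ g (IsLocalRing.closedPoint L) = y ∧ Deg L q n) :
    BddFib.FibreDegLE f n := by
  intro y
  obtain ⟨L, _, T, p, q, g, hsq, rfl, hd⟩ := h y
  exact (fibre_iff f _ n).2 ((deg_fibre f hsq n).1 hd)

theorem iff_forall_field (n : ℕ) :
    BddFib.FibreDegLE f n ↔ ∀ (k : Type u) [Field k] (g : Spec (CommRingCat.of k) ⟶ Y),
      BddFib.FiniteOfDegLE (CommRingCat.of k) (pullback.snd f g) n := by
  refine ⟨fun hf k _ g => (deg_iff k _ n).2 (deg_of_fibreDegLE f hf (.of_hasPullback f g)), fun h => ?_⟩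
  exact fun y => h (Y.residueField y) (Y.fromSpecResidueField y)

theorem of_isPullback {X' Y' : Scheme.{u}} {g : Y' ⟶ Y} {f' : X' ⟶ Y'} {g' : X' ⟶ X} (h : IsPullback g' f' f g)
    {n : ℕ} (hf : BddFib.FibreDegLE f n) : BddFib.FibreDegLE f' n := fun y' =>
  (fibre_iff f' y' n).2 (deg_of_fibreDegLE f hf ((IsPullback.of_hasPullback f' (Y'.fromSpecResidueField y')).paste_horiz h))

theorem of_isPullback_of_surjective {X' Y' : Scheme.{u}} {g : Y' ⟶ Y} [Surjective g] {f' : X' ⟶ Y'} {g' : X' ⟶ X}
    (h : IsPullback g' f' f g) {n : ℕ} (hf' : BddFib.FibreDegLE f' n) : BddFib.FibreDegLE f n := by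
  refine fibreDegLE_of_forall f fun y => ?_
  obtain ⟨y', rfl⟩ := g.surjective y
  exact ⟨Y'.residueField y', inferInstance, _, _, _, Y'.fromSpecResidueField y' ≫ g,
    (IsPullback.of_hasPullback f' (Y'.fromSpecResidueField y')).paste_horiz h,
    (congrArg g (Scheme.fromSpecResidueField_apply y' _) :),
    (fibre_iff f' y' n).1 (hf' y')⟩

theorem of_isImmersion [IsImmersion f] : BddFib.FibreDegLE f 1 := by
  intro y
  rw [fibre_iff]
  set q := f.fiberToSpecResidueField y
  haveI : IsImmersion q := MorphismProperty.of_isPullback (IsPullback.of_hasPullback f (Y.fromSpecResidueField y)) ‹_›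
  haveI : IsClosedImmersion q := .of_isPreimmersion q (Set.toFinite _).isClosed
  refine ⟨inferInstance, ?_⟩
  haveI : IsAffine (f.fiber y) := isAffine_of_isAffineHom q
  letI : Algebra (Y.residueField y) Γ(f.fiber y, ⊤) := BddFib.secAlgebra _ q
  have hs : Function.Surjective (algebraMap (Y.residueField y) Γ(f.fiber y, ⊤)) :=
    (IsClosedImmersion.isAffine_surjective_of_isAffine q).2.comp
      (ConcreteCategory.bijective_of_isIso (Scheme.ΓSpecIso (Y.residueField y)).inv).2
  have hfin : Module.Finite (Y.residueField y) Γ(f.fiber y, ⊤) := Module.Finite.of_surjective (Algebra.linearMap _ _) hs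
  refine (finrank_eq_of_affine (Y.residueField y) q hfin).trans_le ?_
  exact ((Algebra.linearMap (Y.residueField y) Γ(f.fiber y, ⊤)).finrank_le_finrank_of_surjective hs).trans (Module.finrank_self _).le

end Groth.Agent.BddFibLib29
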