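import Groth.Agent.BddFibLib29.Residue
import Groth.Prelude.Def_Mor2
import Mathlib.AlgebraicGeometry.Morphisms.QuasiFinite
import Mathlib.LinearAlgebra.TensorProduct.Quotient
import Mathlib.LinearAlgebra.Dimension.Constructions

/-! # Degrees of fibres of composites -/

set_option autoImplicit false

universe u

open CategoryTheory Limits AlgebraicGeometry TensorProduct

namespace Groth.Agent.BddFibLib29

/-- finitely many maximal ideals: fibrewise generated by `n` elements implies generated by `n` elements -/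
theorem exists_span_eq_top (A M : Type u) [CommRing A] [Finite (MaximalSpectrum A)] [AddCommGroup M] [Module A M]
    [Module.Finite A M] (n : ℕ)
    (h : ∀ m : MaximalSpectrum A, Module.finrank (A ⧸ m.asIdeal) ((A ⧸ m.asIdeal) ⊗[A] M) ≤ n) :
    ∃ g : Fin n → M, Submodule.span A (Set.range g) = ⊤ := by
  classical
  haveI := Fintype.ofFinite (MaximalSpectrum A)
  -- generators modulo each maximal ideal
  have hg : ∀ m : MaximalSpectrum A, ∃ g : Fin n → M,
      Submodule.span A (Set.range g) ⊔ m.asIdeal • (⊤ : Submodule A M) = ⊤ := by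
    intro m
    letI := Ideal.Quotient.field m.asIdeal
    let K := A ⧸ m.asIdeal
    haveI : Module.Finite K (K ⊗[A] M) := Module.Finite.base_change A K M
    let b := Module.finBasis K (K ⊗[A] M)
    have hone : ∀ z : K ⊗[A] M, ∃ x : M, (1 : K) ⊗ₜ[A] x = z := by
      intro z
      induction z using TensorProduct.induction_on with
      | zero => exact ⟨0, tmul_zero _ _⟩
      | add a b ha hb => obtain ⟨x, rfl⟩ := ha; obtain ⟨y, rfl⟩ := hb; exact ⟨x + y, tmul_add _ _ _⟩
      | tmul c x =>
        obtain ⟨a, rfl⟩ := Ideal.Quotient.mk_surjective c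
        exact ⟨a • x, by rw [← smul_tmul, ← Ideal.Quotient.algebraMap_eq, Algebra.smul_def, mul_one]⟩
    choose x hx using fun i => hone (b i)
    refine ⟨fun i => if hi : (i : ℕ) < Module.finrank K (K ⊗[A] M) then x ⟨i, hi⟩ else 0, eq_top_iff.2 fun y _ => ?_⟩
    choose a ha using fun i => Ideal.Quotient.mk_surjective (b.repr ((1 : K) ⊗ₜ[A] y) i)
    have hz : (1 : K) ⊗ₜ[A] (y - ∑ i, a i • x i) = 0 := by
      rw [tmul_sub, sub_eq_zero, tmul_sum]
      conv_lhs => rw [← b.sum_repr ((1 : K) ⊗ₜ[A] y)]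
      refine Finset.sum_congr rfl fun i _ => ?_
      rw [tmul_smul, hx, ← algebraMap_smul K (a i) (b i), Ideal.Quotient.algebraMap_eq, ha]
    have hmem : y - ∑ i, a i • x i ∈ m.asIdeal • (⊤ : Submodule A M) := by
      have := congrArg (TensorProduct.quotTensorEquivQuotSMul M m.asIdeal) hz
      rw [show (1 : K) = Ideal.Quotient.mk m.asIdeal 1 from rfl, map_zero] at this
      erw [TensorProduct.quotTensorEquivQuotSMul_mk_tmul] at this
      rwa [one_smul, Submodule.Quotient.mk_eq_zero] at this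
    have : ∑ i, a i • x i ∈ Submodule.span A (Set.range fun i : Fin n =>
        if hi : (i : ℕ) < Module.finrank K (K ⊗[A] M) then x ⟨i, hi⟩ else 0) :=
      sum_mem fun i _ => Submodule.smul_mem _ _ (Submodule.subset_span ⟨⟨i, lt_of_lt_of_le i.2 (h m)⟩, by simp⟩)
    rw [← sub_add_cancel y (∑ i, a i • x i), add_comm]
    exact Submodule.add_mem_sup this hmem
  choose g hg using hg
  -- glue
  have hcop : Pairwise fun m m' : MaximalSpectrum A => IsCoprime m.asIdeal m'.asIdeal := fun m m' hne => by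
    show IsCoprime m.asIdeal m'.asIdeal
    rw [Ideal.isCoprime_iff_sup_eq]
    exact m.isMaximal.coprime_of_ne m'.isMaximal fun e => hne (MaximalSpectrum.ext e)
  choose e he using fun m : MaximalSpectrum A =>
    Ideal.exists_forall_sub_mem_ideal (I := fun m : MaximalSpectrum A => m.asIdeal) (fun x y hxy => hcop hxy)
      (fun m' => if m' = m then (1 : A) else 0)
  let G : Fin n → M := fun i => ∑ m, e m • g m i
  refine ⟨G, ?_⟩
  set N := Submodule.span A (Set.range G)
  have hN : ∀ m : MaximalSpectrum A, N ⊔ m.asIdeal • (⊤ : Submodule A M) = ⊤ := by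
    intro m
    refine le_antisymm le_top (le_of_eq_of_le (hg m).symm ?_)
    refine sup_le (Submodule.span_le.2 ?_) le_sup_right
    rintro _ ⟨i, rfl⟩
    have hGi : G i ∈ N := Submodule.subset_span (Set.mem_range_self i)
    suffices hrest : g m i - G i ∈ m.asIdeal • (⊤ : Submodule A M) by
      have hh := Submodule.add_mem_sup hGi hrest
      rw [add_sub_cancel] at hh
      exact hh
    have e1 : g m i - G i = ∑ m' : MaximalSpectrum A, ((if m = m' then (1 : A) else 0) - e m') • g m' i := by
      simp_rw [sub_smul]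
      rw [Finset.sum_sub_distrib, Finset.sum_eq_single m (fun b _ hb => by rw [if_neg (Ne.symm hb), zero_smul])
        (fun hm' => absurd (Finset.mem_univ m) hm'), if_pos rfl, one_smul]
    rw [e1]
    refine sum_mem fun m' _ => Submodule.smul_mem_smul ?_ Submodule.mem_top
    rw [← neg_sub]
    exact neg_mem (he m' m)
  by_contra hne
  haveI : Module.Finite A (M ⧸ N) := Module.Finite.quotient A N
  let J := Module.annihilator A (M ⧸ N)
  have hJ : J ≠ ⊤ := by
    intro hJ
    refine hne (eq_top_iff.2 fun y _ => ?_)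
    have h1 : (1 : A) • (Submodule.Quotient.mk (p := N) y) = 0 := Module.mem_annihilator.1 (hJ ▸ Submodule.mem_top : (1 : A) ∈ J) _
    rwa [one_smul, Submodule.Quotient.mk_eq_zero] at h1
  obtain ⟨m, hm, hJm⟩ := Ideal.exists_le_maximal J hJ
  have htop : (⊤ : Submodule A (M ⧸ N)) ≤ m • (⊤ : Submodule A (M ⧸ N)) := by
    intro q _
    obtain ⟨y, rfl⟩ := Submodule.mkQ_surjective N q
    have hy : y ∈ N ⊔ m • (⊤ : Submodule A M) := (hN ⟨m, hm⟩).symm ▸ Submodule.mem_top
    have := Submodule.mem_map_of_mem (f := N.mkQ) hy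
    rw [Submodule.map_sup, Submodule.map_smul'', Submodule.mkQ_map_self, bot_sup_eq, Submodule.map_top, Submodule.range_mkQ] at this
    exact this
  obtain ⟨r, hr1, hr2⟩ := Submodule.exists_sub_one_mem_and_smul_eq_zero_of_fg_of_le_smul m ⊤ (Module.finite_def.1 inferInstance) htop
  have : r ∈ J := Module.mem_annihilator.2 fun q => hr2 q Submodule.mem_top
  exact hm.ne_top ((Ideal.eq_top_iff_one m).2 (by simpa using sub_mem (hJm this) hr1))

/-- composite of finite algebras -/
theorem finrank_le_mul (L : Type u) [Field L] (A B : Type u) [CommRing A] [CommRing B] [Algebra L A] [Module.Finite L A]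
    [Algebra A B] [Algebra L B] [IsScalarTower L A B] [Module.Finite A B] (n : ℕ)
    (h : ∀ m : MaximalSpectrum A, Module.finrank (A ⧸ m.asIdeal) ((A ⧸ m.asIdeal) ⊗[A] B) ≤ n) :
    Module.finrank L B ≤ n * Module.finrank L A := by
  haveI : IsArtinianRing A := IsArtinianRing.of_finite L A
  obtain ⟨g, hg⟩ := exists_span_eq_top A B n h
  let φ : (Fin n → A) →ₗ[L] B := (Fintype.linearCombination A g).restrictScalars L
  have hs : Function.Surjective φ := by
    intro y
    have : y ∈ LinearMap.range (Fintype.linearCombination A g) := by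
      rw [Fintype.range_linearCombination, hg]; exact Submodule.mem_top
    exact this
  refine (φ.finrank_le_finrank_of_surjective hs).trans ?_
  rw [Module.finrank_pi_fintype]
  simp

variable {X Y Z : Scheme.{u}}

theorem locallyQuasiFinite_of_fibreDegLE (f : X ⟶ Y) {n : ℕ} (hf : BddFib.FibreDegLE f n) : LocallyQuasiFinite f :=
  .of_fiberToSpecResidueField f fun y => by
    haveI := ((fibre_iff f y n).1 (hf y)).1
    infer_instance

theorem finite_preimage_of_fibreDegLE (f : X ⟶ Y) {n : ℕ} (hf : BddFib.FibreDegLE f n) (y : Y) :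
    (f.base ⁻¹' {y}).Finite := by
  haveI : Finite (f.fiber y) := (residueDegree_sum_le _ ((fibre_iff f y n).1 (hf y))).1
  have := Set.finite_univ.image (f.fiberι y)
  rwa [Set.image_univ, Scheme.Hom.range_fiberι] at this

/-- the fibres of a composite -/
theorem deg_comp {L : Type u} [Field L] {T U : Scheme.{u}} (f : T ⟶ U) (q : U ⟶ Spec (CommRingCat.of L)) {n m : ℕ}
    (hf : BddFib.FibreDegLE f n) (hq : Deg L q m) : Deg L (f ≫ q) (n * m) := by
  haveI := hq.1
  haveI : Finite U := (residueDegree_sum_le q hq).1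
  haveI : IsAffine U := isAffine_of_isAffineHom q
  obtain ⟨-, hUfin, hUle⟩ := (deg_iff L q m).2 hq
  letI : Algebra L Γ(U, ⊤) := BddFib.secAlgebra (CommRingCat.of L) q
  haveI : Module.Finite L Γ(U, ⊤) := hUfin
  haveI : IsArtinianRing Γ(U, ⊤) := IsArtinianRing.of_finite L Γ(U, ⊤)
  haveI : IsLocallyArtinian U := by
    haveI : IsLocallyArtinian (Spec Γ(U, ⊤)) := Scheme.isLocallyArtinianScheme_Spec.2 inferInstance
    exact IsLocallyArtinian.of_isImmersion U.isoSpec.hom
  haveI : LocallyQuasiFinite f := locallyQuasiFinite_of_fibreDegLE f hf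
  haveI : Finite T := by
    refine Set.finite_univ_iff.1 ?_
    have : (Set.univ : Set T) = ⋃ y : U, f.base ⁻¹' {y} := by ext; simp
    rw [this]
    exact Set.finite_iUnion fun y => finite_preimage_of_fibreDegLE f hf y
  haveI : IsLocallyArtinian T := .of_locallyQuasiFinite f
  haveI : IsAffine T := inferInstance
  haveI : IsFinite f := IsFinite.of_locallyQuasiFinite f
  refine ⟨inferInstance, ?_⟩
  letI : Algebra L Γ(T, ⊤) := BddFib.secAlgebra (CommRingCat.of L) (f ≫ q)
  letI : Algebra Γ(U, ⊤) Γ(T, ⊤) := f.appTop.hom.toAlgebra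
  haveI : IsScalarTower L Γ(U, ⊤) Γ(T, ⊤) := IsScalarTower.of_algebraMap_eq fun a => rfl
  haveI : Module.Finite Γ(U, ⊤) Γ(T, ⊤) := RingHom.finite_algebraMap.1 f.finite_appTop
  haveI : Module.Finite L Γ(T, ⊤) := Module.Finite.trans Γ(U, ⊤) Γ(T, ⊤)
  refine (finrank_eq_of_affine L (f ≫ q) inferInstance).trans_le ?_
  refine le_trans (finrank_le_mul L Γ(U, ⊤) Γ(T, ⊤) n fun M => ?_) (Nat.mul_le_mul_left n hUle)
  let A := Γ(U, ⊤)
  let B := Γ(T, ⊤)
  letI := Ideal.Quotient.field M.asIdeal
  let K := A ⧸ M.asIdeal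
  have hpb := isPullback_SpecMap_of_isPushout _ _ _ _ (CommRingCat.isPushout_tensorProduct A K B)
  let q' : Spec (CommRingCat.of (K ⊗[A] B)) ⟶ Spec (CommRingCat.of K) :=
    Spec.map (CommRingCat.ofHom (algebraMap K (K ⊗[A] B)))
  have htop : IsPullback T.isoSpec.inv (Spec.map (CommRingCat.ofHom (algebraMap A B))) f U.isoSpec.inv :=
    IsPullback.of_horiz_isIso ⟨by
      rw [Iso.inv_comp_eq, ← Category.assoc, Iso.eq_comp_inv]
      exact (Scheme.isoSpec_hom_naturality f).symm⟩
  have hsq := hpb.flip.paste_horiz htop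
  have hd : Deg K q' n := deg_of_fibreDegLE f hf hsq
  obtain ⟨-, -, hle⟩ := (deg_iff K q' n).2 hd
  refine le_trans (le_of_eq ?_) hle
  letI : Algebra K Γ(Spec (CommRingCat.of (K ⊗[A] B)), ⊤) := BddFib.secAlgebra (CommRingCat.of K) q'
  refine LinearEquiv.finrank_eq
    ({ (Scheme.ΓSpecIso (CommRingCat.of (K ⊗[A] B))).symm.commRingCatIsoToRingEquiv.toAddEquiv with
        map_smul' := fun c x => ?_ } : (K ⊗[A] B) ≃ₗ[K] Γ(Spec (CommRingCat.of (K ⊗[A] B)), ⊤))
  show (Scheme.ΓSpecIso (CommRingCat.of (K ⊗[A] B))).inv (c • x) =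
    c • (Scheme.ΓSpecIso (CommRingCat.of (K ⊗[A] B))).inv x
  refine ((congrArg _ (Algebra.smul_def c x)).trans (map_mul (Scheme.ΓSpecIso (CommRingCat.of (K ⊗[A] B))).inv.hom _ _)).trans ?_
  refine Eq.trans ?_ (Algebra.smul_def c _).symm
  congr 1
  exact congr($(Scheme.ΓSpecIso_inv_naturality (CommRingCat.ofHom (algebraMap K (K ⊗[A] B)))) c)

theorem fibreDegLE_comp (f : X ⟶ Y) (g : Y ⟶ Z) {n m : ℕ} (hf : BddFib.FibreDegLE f n) (hg : BddFib.FibreDegLE g m) :
    BddFib.FibreDegLE (f ≫ g) (n * m) := by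
  refine fibreDegLE_of_forall (f ≫ g) fun z => ?_
  let hU := IsPullback.of_hasPullback g (Z.fromSpecResidueField z)
  let hT := IsPullback.of_hasPullback f (pullback.fst g (Z.fromSpecResidueField z))
  exact ⟨Z.residueField z, inferInstance, _, _, _, Z.fromSpecResidueField z, hT.paste_vert hU,
    Scheme.fromSpecResidueField_apply z _, deg_comp _ _ (of_isPullback f hT hf) ((fibre_iff g z m).1 (hg z))⟩

theorem fibreDegLE_of_finLocFree (f : X ⟶ Y) (d : ℕ) (hf : Mor2.IsFinLocFreeOfDeg d f) : BddFib.FibreDegLE f d := by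
  obtain ⟨⟨h1, h2, -⟩, hd⟩ := hf
  haveI := h1
  haveI := h2
  intro y
  refine (fibre_iff f y d).2 ⟨inferInstanceAs (IsFinite (pullback.snd f (Y.fromSpecResidueField y))), ?_⟩
  exact (Scheme.Hom.finrank_pullback_snd f (Y.fromSpecResidueField y) _).trans_le (hd _).le

end Groth.Agent.BddFibLib29
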