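import Groth.Agent.BddFibLib29.Comp
import Mathlib.AlgebraicGeometry.ZariskisMainTheorem
import Mathlib.AlgebraicGeometry.Morphisms.Etale
import Mathlib.AlgebraicGeometry.Morphisms.FormallyUnramified
import Mathlib.RingTheory.Unramified.Field
import Mathlib.FieldTheory.IsAlgClosed.AlgebraicClosure

/-! # Fibre degrees: descent, étale maps, quasi-finite maps -/

set_option autoImplicit false

universe u

open CategoryTheory Limits AlgebraicGeometry TensorProduct

namespace Groth.Agent.BddFibLib29

variable {L : Type u} [Field L]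

/-- a flat surjection of affine schemes can only decrease the degree -/
theorem deg_of_flat_surjective {W V : Scheme.{u}} [IsAffine V] [IsAffine W] (φ : W ⟶ V) [Flat φ] [Surjective φ]
    (qV : V ⟶ Spec (CommRingCat.of L)) {n : ℕ} (h : Deg L (φ ≫ qV) n) : Deg L qV n := by
  obtain ⟨-, hfin, hle⟩ := (deg_iff L _ n).2 h
  have hinj : Function.Injective φ.appTop.hom :=
    ((Flat.flat_and_surjective_iff_faithfullyFlat_of_isAffine (f := φ)).1 ⟨inferInstance, inferInstance⟩).injective
  letI : Algebra L Γ(V, ⊤) := BddFib.secAlgebra (CommRingCat.of L) qV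
  letI : Algebra L Γ(W, ⊤) := BddFib.secAlgebra (CommRingCat.of L) (φ ≫ qV)
  haveI : Module.Finite L Γ(W, ⊤) := hfin
  let ψ : Γ(V, ⊤) →ₗ[L] Γ(W, ⊤) :=
    { toFun := φ.appTop.hom
      map_add' := map_add _
      map_smul' := fun c x => by
        simp only [RingHom.id_apply, Algebra.smul_def, map_mul]
        rfl }
  exact (deg_iff L qV n).1 ⟨inferInstance, Module.Finite.of_injective ψ hinj,
    (LinearMap.finrank_le_finrank_of_injective (f := ψ) hinj).trans hle⟩

theorem discreteTopology_of_deg {T : Scheme.{u}} (q : T ⟶ Spec (CommRingCat.of L)) {n : ℕ} (h : Deg L q n) :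
    DiscreteTopology T := by
  obtain ⟨haff, hfin, -⟩ := (deg_iff L q n).2 h
  letI : Algebra L Γ(T, ⊤) := BddFib.secAlgebra (CommRingCat.of L) q
  haveI : IsAffine T := haff
  haveI : Module.Finite L Γ(T, ⊤) := hfin
  haveI : IsArtinianRing Γ(T, ⊤) := IsArtinianRing.of_finite L Γ(T, ⊤)
  haveI : DiscreteTopology (Spec Γ(T, ⊤)) := inferInstanceAs (DiscreteTopology (PrimeSpectrum _))
  exact T.isoSpec.hom.homeomorph.symm.discreteTopology

theorem finrank_sections_eq {T : Scheme.{u}} (q : T ⟶ Spec (CommRingCat.of L)) {n : ℕ} (h : Deg L q n) :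
    q.finrank (IsLocalRing.closedPoint L) =
      letI := BddFib.secAlgebra (CommRingCat.of L) q; Module.finrank L Γ(T, ⊤) := by
  obtain ⟨haff, hfin, -⟩ := (deg_iff L q n).2 h
  haveI : IsAffine T := haff
  exact finrank_eq_of_affine L q hfin

/-- over a field: the image of a finite scheme under a flat surjection -/
theorem deg_descend {T U : Scheme.{u}} (φ : T ⟶ U) [Flat φ] [Surjective φ] (q : U ⟶ Spec (CommRingCat.of L)) {n : ℕ}
    (h : Deg L (φ ≫ q) n) : Deg L q n := by
  haveI : Finite T := (residueDegree_sum_le _ h).1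
  haveI : DiscreteTopology T := discreteTopology_of_deg _ h
  haveI : Finite U := Finite.of_surjective φ.base φ.surjective
  haveI : DiscreteTopology U := by
    refine discreteTopology_iff_isOpen_singleton.mpr fun u => ?_
    obtain ⟨_, ⟨V : U.Opens, hV, rfl⟩, huV, -⟩ :=
      U.isBasis_affineOpens.exists_subset_of_mem_open (Set.mem_univ u) isOpen_univ
    haveI : IsAffine V := hV
    haveI : IsClosedImmersion (φ ⁻¹ᵁ V).ι := .of_isPreimmersion _ (isClosed_discrete _)
    haveI : IsFinite (φ ≫ q) := h.1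
    haveI : DiscreteTopology (φ ⁻¹ᵁ V).toScheme := (φ ⁻¹ᵁ V).ι.isOpenEmbedding.discreteTopology
    haveI : Finite (φ ⁻¹ᵁ V).toScheme := Finite.of_injective _ (φ ⁻¹ᵁ V).ι.isOpenEmbedding.injective
    haveI : IsAffine (φ ⁻¹ᵁ V).toScheme := inferInstance
    haveI : Flat (φ ∣_ V) := inferInstance
    haveI : Surjective (φ ∣_ V) := IsZariskiLocalAtTarget.restrict ‹Surjective φ› V
    have e : (φ ∣_ V) ≫ V.ι ≫ q = (φ ⁻¹ᵁ V).ι ≫ φ ≫ q := by rw [morphismRestrict_ι_assoc]
    have hW : Deg L ((φ ∣_ V) ≫ V.ι ≫ q) _ := ⟨by rw [e]; infer_instance, le_refl _⟩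
    haveI := discreteTopology_of_deg _ (deg_of_flat_surjective (φ ∣_ V) (V.ι ≫ q) hW)
    have := V.ι.isOpenEmbedding.isOpenMap _ (isOpen_discrete ({⟨u, huV⟩} : Set V.toScheme))
    rw [Set.image_singleton] at this
    exact this
  haveI : IsAffine U := inferInstance
  haveI : IsAffine T := ((deg_iff L _ n).2 h).1
  exact deg_of_flat_surjective φ q h

theorem fibreDegLE_of_flat_surjective {X Y Z : Scheme.{u}} (f : X ⟶ Y) (h : Y ⟶ Z) [Flat f] [Surjective f] {n : ℕ}
    (hg : BddFib.FibreDegLE (f ≫ h) n) : BddFib.FibreDegLE h n := by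
  intro z
  refine (fibre_iff h z n).2 ?_
  let hU := IsPullback.of_hasPullback h (Z.fromSpecResidueField z)
  let hT := IsPullback.of_hasPullback f (pullback.fst h (Z.fromSpecResidueField z))
  haveI : Surjective (pullback.snd f (pullback.fst h (Z.fromSpecResidueField z))) :=
    MorphismProperty.pullback_snd _ _ ‹Surjective f›
  exact deg_descend (pullback.snd f (pullback.fst h (Z.fromSpecResidueField z))) _ (deg_of_fibreDegLE _ hg (hT.paste_vert hU))

/-- étale morphisms: degree = number of geometric points -/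
theorem fibreDegLE_of_etale {X Y : Scheme.{u}} (f : X ⟶ Y) [Etale f] (n : ℕ)
    (h : ∀ (k : Type u) [Field k] (g : Spec (CommRingCat.of k) ⟶ Y),
      Finite ↥(Limits.pullback f g) ∧ Nat.card ↥(Limits.pullback f g) ≤ n) :
    BddFib.FibreDegLE f n := by
  refine fibreDegLE_of_forall f fun y => ?_
  let K := AlgebraicClosure (Y.residueField y)
  let g : Spec (CommRingCat.of K) ⟶ Y :=
    Spec.map (CommRingCat.ofHom (algebraMap (Y.residueField y) K)) ≫ Y.fromSpecResidueField y
  obtain ⟨hfin, hcard⟩ := h K g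
  haveI := hfin
  refine ⟨K, inferInstance, _, _, _, g, IsPullback.of_hasPullback f g, Scheme.fromSpecResidueField_apply y _, ?_⟩
  set T := pullback f g
  set q := pullback.snd f g
  haveI : Etale q := MorphismProperty.pullback_snd f g ‹_›
  haveI : LocallyQuasiFinite q := LocallyQuasiFinite.of_finite_preimage_singleton q fun _ => Set.toFinite _
  haveI : IsLocallyArtinian (Spec (CommRingCat.of K)) :=
    Scheme.isLocallyArtinianScheme_Spec.2 (inferInstanceAs (IsArtinianRing K))
  haveI : CompactSpace T := Finite.compactSpace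
  haveI : QuasiCompact q := HasAffineProperty.iff_of_isAffine.2 ‹_›
  haveI : IsFinite q := IsFinite.of_locallyQuasiFinite q
  haveI : IsAffine T := isAffine_of_isAffineHom q
  letI : Algebra K Γ(T, ⊤) := BddFib.secAlgebra (CommRingCat.of K) q
  haveI : Module.Finite K Γ(T, ⊤) := by
    have := q.finite_appTop
    rw [← RingHom.finite_respectsIso.cancel_left_isIso (Scheme.ΓSpecIso (CommRingCat.of K)).inv, ← CommRingCat.hom_comp] at this
    exact RingHom.finite_algebraMap.1 this
  haveI : Algebra.FormallyUnramified K Γ(T, ⊤) := by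
    have := HasRingHomProperty.appTop (P := @FormallyUnramified) q inferInstance
    rw [← RingHom.FormallyUnramified.respectsIso.cancel_left_isIso (Scheme.ΓSpecIso (CommRingCat.of K)).inv,
      ← CommRingCat.hom_comp] at this
    exact RingHom.formallyUnramified_algebraMap.1 this
  haveI : IsReduced Γ(T, ⊤) := Algebra.FormallyUnramified.isReduced_of_field K Γ(T, ⊤)
  haveI : IsArtinianRing Γ(T, ⊤) := IsArtinianRing.of_finite K Γ(T, ⊤)
  refine ⟨inferInstance, (finrank_eq_of_affine K q inferInstance).trans_le ?_⟩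
  refine le_trans ?_ hcard
  haveI := Fintype.ofFinite (MaximalSpectrum Γ(T, ⊤))
  let π : Γ(T, ⊤) →ₗ[K] ((m : MaximalSpectrum Γ(T, ⊤)) → Γ(T, ⊤) ⧸ m.asIdeal) :=
    LinearMap.pi fun m => (Ideal.Quotient.mkₐ K m.asIdeal).toLinearMap
  have hπ : Function.Injective π := by
    rw [injective_iff_map_eq_zero]
    intro a ha
    refine (nilpotent_iff_mem_prime.2 fun p hp => ?_).eq_zero
    exact Ideal.Quotient.eq_zero_iff_mem.1 (congrFun ha ⟨p, IsArtinianRing.isMaximal_of_isPrime p⟩)
  refine (LinearMap.finrank_le_finrank_of_injective (f := π) hπ).trans ?_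
  have hdim : ∀ m : MaximalSpectrum Γ(T, ⊤), Module.finrank K (Γ(T, ⊤) ⧸ m.asIdeal) = 1 := by
    intro m
    letI := Ideal.Quotient.field m.asIdeal
    have hb := IsAlgClosed.algebraMap_bijective_of_isIntegral (k := K) (K := Γ(T, ⊤) ⧸ m.asIdeal)
    exact (LinearEquiv.ofBijective (Algebra.linearMap K _) hb).finrank_eq.symm.trans (Module.finrank_self K)
  rw [Module.finrank_pi_fintype, Finset.sum_congr rfl (fun m _ => hdim m), ← Finset.card_eq_sum_ones, Finset.card_univ,
    ← Nat.card_eq_fintype_card]
  haveI : Finite (PrimeSpectrum Γ(T, ⊤)) := Finite.of_equiv T T.isoSpec.hom.homeomorph.toEquiv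
  exact (Nat.card_le_card_of_injective (MaximalSpectrum.toPrimeSpectrum) MaximalSpectrum.toPrimeSpectrum_injective).trans
    (Nat.card_congr T.isoSpec.hom.homeomorph.toEquiv.symm).le

/-- finitely many open pieces -/
theorem fibreDegLE_of_cover {X Y : Scheme.{u}} (f : X ⟶ Y) {ι : Type u} [Fintype ι] (W : ι → Scheme.{u})
    (j : ∀ i, W i ⟶ X) [∀ i, IsOpenImmersion (j i)] (hcov : ∀ x : X, ∃ i, x ∈ Set.range (j i).base) (n : ι → ℕ)
    (h : ∀ i, BddFib.FibreDegLE (j i ≫ f) (n i)) : BddFib.FibreDegLE f (∑ i, n i) := by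
  intro y
  rw [fibre_iff]
  let L := Y.residueField y
  let T := f.fiber y
  let q : T ⟶ Spec L := f.fiberToSpecResidueField y
  have hsq : IsPullback (f.fiberι y) q f (Y.fromSpecResidueField y) := .of_hasPullback _ _
  let Ti : ι → Scheme.{u} := fun i => pullback (j i) (f.fiberι y)
  let ti : ∀ i, Ti i ⟶ T := fun i => pullback.snd (j i) (f.fiberι y)
  have hd : ∀ i, Deg (Y.residueField y) (ti i ≫ q) (n i) := fun i =>
    deg_of_fibreDegLE _ (h i) ((IsPullback.of_hasPullback (j i) (f.fiberι y)).paste_vert hsq)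
  have hjT : ∀ t : T, ∃ i, t ∈ Set.range (ti i).base := by
    intro t
    obtain ⟨i, hi⟩ := hcov ((f.fiberι y).base t)
    obtain ⟨w, hw⟩ := hi
    obtain ⟨z, -, hz⟩ := Scheme.Pullback.exists_preimage_pullback w t hw
    exact ⟨i, z, hz⟩
  haveI hTfin : Finite T := by
    refine Set.finite_univ_iff.1 ?_
    have : (Set.univ : Set T) = ⋃ i, Set.range (ti i).base := by
      ext t; simpa using hjT t
    rw [this]
    exact Set.finite_iUnion fun i => haveI : Finite (Ti i) := (residueDegree_sum_le _ (hd i)).1; Set.finite_range _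
  haveI : ∀ i, IsFinite (ti i ≫ q) := fun i => (hd i).1
  let 𝒰 : T.OpenCover := Scheme.openCoverOfIsOpenCover T (fun i => (ti i).opensRange)
    (by
      rw [TopologicalSpace.IsOpenCover, ← SetLike.coe_set_eq, TopologicalSpace.Opens.coe_iSup, TopologicalSpace.Opens.coe_top,
        Set.eq_univ_iff_forall]
      intro t
      obtain ⟨i, hi⟩ := hjT t
      exact Set.mem_iUnion.2 ⟨i, hi⟩)
  haveI : LocallyQuasiFinite q := by
    refine (IsZariskiLocalAtSource.iff_of_openCover (P := @LocallyQuasiFinite) 𝒰).2 fun i => ?_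
    have e : 𝒰.f i ≫ q = (IsOpenImmersion.isoOfRangeEq (ti i) (ti i).opensRange.ι (by simp)).inv ≫ ti i ≫ q := by
      rw [IsOpenImmersion.isoOfRangeEq_inv_fac_assoc]; rfl
    rw [e]
    haveI : LocallyQuasiFinite (ti i ≫ q) := inferInstance
    exact MorphismProperty.comp_mem @LocallyQuasiFinite _ _ inferInstance ‹_›
  haveI : IsLocallyArtinian (Spec (Y.residueField y)) :=
    Scheme.isLocallyArtinianScheme_Spec.2 (inferInstanceAs (IsArtinianRing (Y.residueField y)))
  haveI : CompactSpace T := Finite.compactSpace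
  haveI : QuasiCompact q := HasAffineProperty.iff_of_isAffine.2 ‹_›
  haveI : IsFinite q := IsFinite.of_locallyQuasiFinite q
  haveI : IsAffine T := isAffine_of_isAffineHom q
  letI : Algebra (Y.residueField y) Γ(T, ⊤) := BddFib.secAlgebra (Y.residueField y) q
  letI : ∀ i, Algebra (Y.residueField y) Γ(Ti i, ⊤) := fun i => BddFib.secAlgebra (Y.residueField y) (ti i ≫ q)
  haveI : ∀ i, Module.Finite (Y.residueField y) Γ(Ti i, ⊤) := fun i => ((deg_iff _ _ (n i)).2 (hd i)).2.1
  haveI hTmod : Module.Finite (Y.residueField y) Γ(T, ⊤) := by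
    have := q.finite_appTop
    rw [← RingHom.finite_respectsIso.cancel_left_isIso (Scheme.ΓSpecIso (Y.residueField y)).inv, ← CommRingCat.hom_comp] at this
    exact RingHom.finite_algebraMap.1 this
  refine ⟨inferInstance, (finrank_eq_of_affine (Y.residueField y) q hTmod).trans_le ?_⟩
  let ρ : Γ(T, ⊤) →ₗ[Y.residueField y] ((i : ι) → Γ(Ti i, ⊤)) := LinearMap.pi fun i =>
    { toFun := (ti i).appTop.hom
      map_add' := map_add _
      map_smul' := fun c x => by
        simp only [RingHom.id_apply, Algebra.smul_def, map_mul]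
        rfl }
  have hρ : Function.Injective ρ := by
    rw [injective_iff_map_eq_zero]
    intro a ha
    refine T.IsSheaf.section_ext fun t _ => ?_
    obtain ⟨i, hi⟩ := hjT t
    refine ⟨(ti i) ''ᵁ ⊤, le_top, by simpa using hi, ?_⟩
    rw [map_zero]
    have h0 : (ti i).appTop a = 0 := congrFun ha i
    have h1 : ((ti i).appIso ⊤).hom (T.presheaf.map (homOfLE le_top).op a) = 0 := by
      rw [Scheme.Hom.appIso_hom', ← ConcreteCategory.comp_apply, Scheme.Hom.map_appLE, ← h0,
        Scheme.Hom.appTop, Scheme.Hom.app_eq_appLE]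
      rfl
    exact (ConcreteCategory.bijective_of_isIso ((ti i).appIso ⊤).hom).1 (h1.trans (map_zero _).symm)
  refine (LinearMap.finrank_le_finrank_of_injective (f := ρ) hρ).trans ?_
  rw [Module.finrank_pi_fintype]
  exact Finset.sum_le_sum fun i _ => ((deg_iff _ _ (n i)).2 (hd i)).2.2

/-- a finite algebra generated by `N` elements -/
theorem fibreDegLE_specMap_of_finite (R S : Type u) [CommRing R] [CommRing S] [Algebra R S] {N : ℕ} (g : Fin N → S)
    (hg : Submodule.span R (Set.range g) = ⊤) :
    BddFib.FibreDegLE (Spec.map (CommRingCat.ofHom (algebraMap R S))) N := by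
  haveI : Module.Finite R S := .of_surjective (Fintype.linearCombination R g) fun y => by
    have : y ∈ LinearMap.range (Fintype.linearCombination R g) := by rw [Fintype.range_linearCombination, hg]; trivial
    exact this
  refine fibreDegLE_of_forall _ fun p => ?_
  let K := p.asIdeal.ResidueField
  have hsq := (isPullback_SpecMap_of_isPushout _ _ _ _ (CommRingCat.isPushout_tensorProduct R K S)).flip
  refine ⟨K, inferInstance, _, _, _, _, hsq, ?_, ?_⟩
  · apply PrimeSpectrum.ext
    show Ideal.comap (algebraMap R K) (IsLocalRing.closedPoint K).asIdeal = p.asIdeal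
    rw [show (IsLocalRing.closedPoint K).asIdeal = ⊥ from IsLocalRing.maximalIdeal_eq_bot, ← RingHom.ker_eq_comap_bot]
    exact Ideal.ker_algebraMap_residueField _
  · let q' : Spec (CommRingCat.of (K ⊗[R] S)) ⟶ Spec (CommRingCat.of K) :=
      Spec.map (CommRingCat.ofHom Algebra.TensorProduct.includeLeftRingHom)
    haveI : Module.Finite K (K ⊗[R] S) := Module.Finite.base_change R K S
    haveI : IsFinite q' := (IsFinite.SpecMap_iff _).2 (RingHom.finite_algebraMap.2 ‹_›)
    haveI : Flat q' := flat_toSpecField K q'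
    refine ⟨‹_›, ?_⟩
    refine ((Scheme.Hom.finrank_SpecMap_algebraMap K (K ⊗[R] S) (IsLocalRing.closedPoint K)).trans
      (congrFun Module.rankAtStalk_eq_finrank_of_free _)).trans_le ?_
    let g' : Fin N → K ⊗[R] S := fun i => (1 : K) ⊗ₜ[R] g i
    have htop : Submodule.span K (Set.range g') = ⊤ := by
      rw [eq_top_iff]
      rintro z -
      induction z using TensorProduct.induction_on with
      | zero => exact zero_mem _
      | add a b ha hb => exact add_mem ha hb
      | tmul c x =>
        have hx : x ∈ Submodule.span R (Set.range g) := hg ▸ Submodule.mem_top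
        rw [show c ⊗ₜ[R] x = c • ((1 : K) ⊗ₜ[R] x) by rw [smul_tmul', smul_eq_mul, mul_one]]
        refine Submodule.smul_mem _ _ ?_
        induction hx using Submodule.span_induction with
        | mem x hx => obtain ⟨i, rfl⟩ := hx; exact Submodule.subset_span ⟨i, rfl⟩
        | zero => rw [tmul_zero]; exact zero_mem _
        | add a b _ _ ha hb => rw [tmul_add]; exact add_mem ha hb
        | smul a x _ hx => rw [tmul_smul]; exact Submodule.smul_of_tower_mem _ a hx
    have hc := finrank_range_le_card (R := K) g'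
    rw [Set.finrank, htop, finrank_top, Fintype.card_fin] at hc
    exact hc

theorem awayMap_algebraMap {R S : Type u} [CommRing R] [CommRing S] [Algebra R S] (S' : Subalgebra R S) (r : S') (s : R) :
    Localization.awayMap S'.val.toRingHom r (algebraMap S' (Localization.Away r) (algebraMap R S' s)) =
      algebraMap S (Localization.Away (r : S)) (algebraMap R S s) := by
  simp only [Localization.awayMap, IsLocalization.Away.map, IsLocalization.map_eq]
  rfl

theorem univBounded_of_lqf {X Y : Scheme.{u}} (f : X ⟶ Y) [LocallyQuasiFinite f] [LocallyOfFiniteType f]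
    [CompactSpace X] : BddFib.UnivBounded f := by
  have hloc : ∀ x : X, ∃ (W : Scheme.{u}) (j : W ⟶ X) (_ : IsOpenImmersion j) (N : ℕ),
      x ∈ Set.range j.base ∧ BddFib.FibreDegLE (j ≫ f) N := by
    intro x
    obtain ⟨_, ⟨U : Y.Opens, hU, rfl⟩, hxU, -⟩ :=
      Y.isBasis_affineOpens.exists_subset_of_mem_open (Set.mem_univ (f x)) isOpen_univ
    obtain ⟨_, ⟨V : X.Opens, hV, rfl⟩, hxV, hVU : V ≤ f ⁻¹ᵁ U⟩ :=
      X.isBasis_affineOpens.exists_subset_of_mem_open (show x ∈ f ⁻¹ᵁ U from hxU) (f ⁻¹ᵁ U).isOpen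
    let φ := f.appLE U V hVU
    have hqf : φ.hom.QuasiFinite := HasRingHomProperty.appLE (P := @LocallyQuasiFinite) f inferInstance ⟨U, hU⟩ ⟨V, hV⟩ hVU
    have hft : φ.hom.FiniteType := f.finiteType_appLE hU hV hVU
    let R := Γ(Y, U)
    let S := Γ(X, V)
    algebraize [φ.hom]
    haveI : Algebra.QuasiFinite R S := hqf
    let p := hV.primeIdealOf ⟨x, hxV⟩
    obtain ⟨S', hS', r, hr, hbij⟩ :=
      Algebra.QuasiFiniteAt.exists_fg_and_exists_notMem_and_awayMap_bijective (R := R) (S := S) p.asIdeal
    haveI : Module.Finite R S' := ⟨(Submodule.fg_top _).mpr hS'⟩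
    obtain ⟨N, g, hg⟩ := Module.Finite.exists_fin (R := R) (M := S')
    let a : CommRingCat.of S ⟶ CommRingCat.of (Localization.Away (r : S)) := CommRingCat.ofHom (algebraMap S _)
    let j : Spec (CommRingCat.of (Localization.Away (r : S))) ⟶ X := Spec.map a ≫ hV.fromSpec
    haveI : IsOpenImmersion (Spec.map a) := IsOpenImmersion.of_isLocalization (r : S)
    refine ⟨_, j, inferInstance, 1 * (N * 1), ?_, ?_⟩
    · have hp : p ∈ PrimeSpectrum.basicOpen (r : S) := hr
      have : p ∈ Set.range (PrimeSpectrum.comap (algebraMap S (Localization.Away (r : S)))) := by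
        rw [PrimeSpectrum.localization_away_comap_range (Localization.Away (r : S)) (r : S)]
        exact hp
      obtain ⟨w, hw⟩ := this
      refine ⟨w, ?_⟩
      show hV.fromSpec ((Spec.map a) w) = x
      rw [show (Spec.map a) w = p from hw]
      exact hV.fromSpec_primeIdealOf ⟨x, hxV⟩
    · let β : Localization.Away r →+* Localization.Away (r : S) := Localization.awayMap S'.val.toRingHom r
      let e : CommRingCat.of (Localization.Away r) ⟶ CommRingCat.of (Localization.Away (r : S)) := CommRingCat.ofHom β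
      haveI : IsIso e := (RingEquiv.ofBijective β hbij).toCommRingCatIso.isIso_hom
      have hfac : j ≫ f = (Spec.map e ≫ Spec.map (CommRingCat.ofHom (algebraMap S' (Localization.Away r)))) ≫
          (Spec.map (CommRingCat.ofHom (algebraMap R S')) ≫ hU.fromSpec) := by
        show (Spec.map a ≫ hV.fromSpec) ≫ f = _
        rw [Category.assoc, ← IsAffineOpen.SpecMap_appLE_fromSpec f hU hV hVU, ← Category.assoc, ← Category.assoc,
          ← Spec.map_comp, ← Spec.map_comp, ← Spec.map_comp]
        congr 2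
        ext s
        exact (awayMap_algebraMap S' r s).symm
      rw [hfac]
      haveI : IsOpenImmersion (Spec.map (CommRingCat.ofHom (algebraMap S' (Localization.Away r)))) :=
        IsOpenImmersion.of_isLocalization r
      exact fibreDegLE_comp _ _ (of_isImmersion _)
        (fibreDegLE_comp _ _ (fibreDegLE_specMap_of_finite R S' g hg) (of_isImmersion _))
  choose W j hj N hx hN using hloc
  obtain ⟨s, hs⟩ := isCompact_univ.elim_finite_subcover (fun x : X => Set.range (j x).base)
    (fun x => (j x).isOpenEmbedding.isOpen_range) (fun x _ => Set.mem_iUnion.2 ⟨x, hx x⟩)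
  haveI : ∀ x : s, IsOpenImmersion (j x.1) := fun x => hj x.1
  exact ⟨_, fibreDegLE_of_cover f (fun x : s => W x.1) (fun x => j x.1) (fun y => by
    obtain ⟨x, hxs, hy⟩ := Set.mem_iUnion₂.1 (hs (Set.mem_univ y))
    exact ⟨⟨x, hxs⟩, hy⟩) (fun x => N x.1) (fun x => hN x.1)⟩

end Groth.Agent.BddFibLib29
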