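import Groth.Agent.BddFibLib29.Basic
import Mathlib.AlgebraicGeometry.ResidueField
import Mathlib.RingTheory.Ideal.Quotient.Operations
import Mathlib.RingTheory.Artinian.Module
import Mathlib.LinearAlgebra.FiniteDimensional.Lemmas

/-! # Residue degrees of a finite scheme over a field -/

set_option autoImplicit false

universe u

open CategoryTheory Limits AlgebraicGeometry

namespace Groth.Agent.BddFibLib29

theorem evaluation_surjective {X : Scheme.{u}} {U : X.Opens} (hU : IsAffineOpen U) {P : X} (hPU : P ∈ U)
    (hP : IsClosed ({P} : Set X)) : Function.Surjective (X.evaluation U P hPU) := by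
  let x : U := ⟨P, hPU⟩
  haveI := hU.primeIdealOf_isMaximal_of_isClosed x hP
  let p := (hU.primeIdealOf x).asIdeal
  let _ := (X.presheaf.algebra_section_stalk x)
  haveI : IsLocalization.AtPrime (X.presheaf.stalk P) p := hU.isLocalization_stalk x
  intro z
  obtain ⟨t, rfl⟩ := X.residue_surjective P z
  obtain ⟨⟨a, s⟩, hst⟩ := IsLocalization.mk'_surjective p.primeCompl t
  obtain ⟨y, m, hm, hy⟩ := (inferInstance : p.IsMaximal).exists_inv s.2
  refine ⟨a * y, ?_⟩
  have hm0 : X.evaluation U P hPU m = 0 := by
    have h : algebraMap Γ(X, U) (X.presheaf.stalk P) m ∈ IsLocalRing.maximalIdeal _ :=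
      (IsLocalization.AtPrime.to_map_mem_maximal_iff (X.presheaf.stalk P) p m).2 hm
    exact (IsLocalRing.residue_eq_zero_iff _).2 h
  have hys : X.evaluation U P hPU y * X.evaluation U P hPU s.1 = 1 := by
    rw [← map_mul, ← add_zero (X.evaluation U P hPU (y * s.1)), ← hm0, ← map_add, hy, map_one]
  have hsa : X.residue P t * X.evaluation U P hPU s.1 = X.evaluation U P hPU a := by
    show X.residue P t * X.residue P (algebraMap Γ(X, U) (X.presheaf.stalk P) s.1) =
      X.residue P (algebraMap Γ(X, U) (X.presheaf.stalk P) a)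
    rw [← map_mul]
    exact congrArg _ (IsLocalization.eq_mk'_iff_mul_eq.1 hst.symm)
  rw [map_mul, ← hsa, mul_assoc, mul_comm (X.evaluation U P hPU s.1), hys, mul_one]

/-- a finite scheme over a field: residue degrees add up to at most the rank -/
theorem residueDegree_sum_le {L : Type u} [Field L] {T : Scheme.{u}} (q : T ⟶ Spec (CommRingCat.of L)) {n : ℕ}
    (h : Deg L q n) :
    Finite T ∧ (∀ x : T, 1 ≤ q.residueDegree x) ∧ ∑ᶠ x : T, q.residueDegree x ≤ n := by
  classical
  obtain ⟨haff, hfin, hle⟩ := (deg_iff L q n).2 h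
  letI : Algebra L Γ(T, ⊤) := BddFib.secAlgebra (CommRingCat.of L) q
  haveI : IsAffine T := haff
  haveI hfi : Module.Finite L Γ(T, ⊤) := hfin
  haveI : IsArtinianRing Γ(T, ⊤) := IsArtinianRing.of_finite L Γ(T, ⊤)
  let e := T.isoSpec.hom.homeomorph
  haveI : Finite (PrimeSpectrum Γ(T, ⊤)) := inferInstance
  haveI : DiscreteTopology T := e.symm.discreteTopology
  haveI : Finite T := Finite.of_equiv (PrimeSpectrum Γ(T, ⊤)) e.symm.toEquiv
  haveI : Fintype T := Fintype.ofFinite T
  have hcl : ∀ x : T, IsClosed ({x} : Set T) := fun x => isClosed_discrete _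
  let ev : ∀ x : T, Γ(T, ⊤) →+* T.residueField x := fun x => (T.evaluation ⊤ x trivial).hom
  have hev : ∀ x, Function.Surjective (ev x) := fun x => evaluation_surjective (isAffineOpen_top T) trivial (hcl x)
  letI : ∀ x : T, Algebra L (T.residueField x) := fun x => ((ev x).comp (algebraMap L Γ(T, ⊤))).toAlgebra
  let evl : ∀ x : T, Γ(T, ⊤) →ₗ[L] T.residueField x := fun x =>
    { toFun := ev x
      map_add' := map_add _
      map_smul' := fun c a => by
        simp only [RingHom.id_apply, Algebra.smul_def, map_mul, RingHom.algebraMap_toAlgebra, RingHom.comp_apply] }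
  haveI : ∀ x, Module.Finite L (T.residueField x) := fun x => Module.Finite.of_surjective (evl x) (hev x)
  -- surjectivity onto the product
  have hmax : ∀ x, (RingHom.ker (ev x)).IsMaximal := fun x => RingHom.ker_isMaximal_of_surjective (ev x) (hev x)
  have hdist : Pairwise fun x y => IsCoprime (RingHom.ker (ev x)) (RingHom.ker (ev y)) := by
    intro x y hxy
    rw [Ideal.isCoprime_iff_sup_eq]
    refine (hmax x).coprime_of_ne (hmax y) fun he => hxy ?_
    have key : ∀ a : Γ(T, ⊤), x ∈ T.basicOpen a ↔ y ∈ T.basicOpen a := fun a => by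
      have := SetLike.ext_iff.1 he a
      simp only [RingHom.mem_ker] at this
      rw [← not_iff_not, ← Scheme.evaluation_eq_zero_iff_notMem_basicOpen (U := ⊤) (x := x) (hx := trivial) (f := a),
        ← Scheme.evaluation_eq_zero_iff_notMem_basicOpen (U := ⊤) (x := y) (hx := trivial) (f := a)]
      exact this
    refine Inseparable.eq ((isBasis_basicOpen T).inseparable_iff.2 ?_)
    rintro _ ⟨U, ⟨a, rfl⟩, rfl⟩
    exact key a
  have hsurj : Function.Surjective (LinearMap.pi evl) := by
    intro z
    choose b hb using fun x => hev x (z x)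
    obtain ⟨c, hc⟩ := Ideal.exists_forall_sub_mem_ideal (fun x y hxy => hdist hxy) b
    refine ⟨c, funext fun x => ?_⟩
    have := hc x
    rw [RingHom.mem_ker, map_sub, sub_eq_zero, hb] at this
    exact this
  have hsum : ∑ x, Module.finrank L (T.residueField x) ≤ n := by
    rw [← Module.finrank_pi_fintype]
    exact ((LinearMap.pi evl).finrank_le_finrank_of_surjective hsurj).trans hle
  have hdeg : ∀ x, q.residueDegree x = Module.finrank L (T.residueField x) := by
    intro x
    let S := Spec (CommRingCat.of L)
    let ρ : L →+* S.residueField (q x) := ((Scheme.ΓSpecIso (CommRingCat.of L)).inv ≫ S.evaluation ⊤ (q x) trivial).hom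
    have hρ : Function.Bijective ρ := by
      refine ⟨ρ.injective, ?_⟩
      haveI : DiscreteTopology S := inferInstanceAs (DiscreteTopology (PrimeSpectrum L))
      exact (evaluation_surjective (isAffineOpen_top S) (P := q x) trivial (isClosed_discrete _)).comp
        (ConcreteCategory.bijective_of_isIso (Scheme.ΓSpecIso (CommRingCat.of L)).inv).2
    letI := (q.residueFieldMap x).hom.toAlgebra
    symm
    refine Algebra.finrank_eq_of_equiv_equiv (RingEquiv.ofBijective ρ hρ) (RingEquiv.refl _) ?_
    ext a
    simp only [RingHom.comp_apply, RingEquiv.coe_toRingHom, RingEquiv.refl_apply, RingEquiv.ofBijective_apply,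
      RingHom.algebraMap_toAlgebra]
    exact congr($(Scheme.evaluation_naturality (f := q) (x := x) (V := ⊤) (hx := trivial)) ((Scheme.ΓSpecIso (CommRingCat.of L)).inv a))
  refine ⟨inferInstance, fun x => by rw [hdeg]; exact Module.finrank_pos, ?_⟩
  rw [finsum_eq_sum_of_fintype]
  simp only [hdeg]
  exact hsum

end Groth.Agent.BddFibLib29
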